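import Groth.Agent.CurveDual18.EulerHom
import Groth.Agent.CurveDual.Support
import Groth.Agent.GenusLe.Birat
import Groth.Agent.Lib.CurveAmple
import Groth.Agent.TFOneX.Basic
import Groth.Agent.S16082

/-!
Biduality into the dualizing module of an integral curve.
-/

set_option autoImplicit false
set_option linter.style.haveILetI false
set_option linter.unusedSectionVars false
set_option backward.isDefEq.respectTransparency false
set_option backward.isDefEq.respectTransparency.types false
set_option maxHeartbeats 1000000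

universe u

open CategoryTheory CategoryTheory.Limits AlgebraicGeometry TopologicalSpace Opposite

noncomputable section

namespace Groth.Agent.CurveDual18

open Groth.Agent

section Eta

variable {X : Scheme.{u}} (F G : X.Modules)

/-- Evaluation at an element of a stalk. -/
def evAt (x : X) : F.presheaf.stalk x →ₗ[X.presheaf.stalk x] RefHull.StalkHom (RefHull.homSh F G) G x where
  toFun v := (LinearMap.applyₗ v).comp (RefHull.evalStalk F G x)
  map_add' v w := LinearMap.ext fun θ => map_add (RefHull.evalStalk F G x θ) v w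
  map_smul' a v := LinearMap.ext fun θ => map_smul (RefHull.evalStalk F G x θ) a v

/-- Evaluation on sections. -/
def evFun (U : X.Opens) : Γ(F, U) →+ Γ(RefHull.homSh (RefHull.homSh F G) G, U) where
  toFun s := ⟨fun x => evAt F G x.1 (F.presheaf.germ U x.1 x.2 s), fun V i g x => by
    obtain ⟨W, hW, j, n, w⟩ := RefHull.isLocSect_of_mem g V (𝟙 V) (F.presheaf.map i.op s) x
    refine ⟨W, hW, j, n, fun y => ?_⟩
    have e := w y
    rw [TopCat.Presheaf.germ_res_apply] at e
    show RefHull.evalStalk F G _ _ _ = _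
    rw [RefHull.evalStalk_germ]
    exact e⟩
  map_zero' := Subtype.ext <| funext fun x => by
    simp only [map_zero]
    rfl
  map_add' s t := Subtype.ext <| funext fun x => by
    simp only [map_add]
    rfl

/-- The morphism into the bidual. -/
def eta : F ⟶ RefHull.homSh (RefHull.homSh F G) G :=
  ⟨PresheafOfModules.homMk
    { app := fun U => AddCommGrpCat.ofHom (evFun F G U.unop)
      naturality := fun {U V} i => by
        ext s
        refine Subtype.ext (funext fun x => ?_)
        change evAt F G x.1 _ = evAt F G x.1 _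
        exact congrArg _ (TopCat.Presheaf.germ_res_apply' F.presheaf i x.1 x.2 s) }
    (fun U r s => Subtype.ext <| funext fun x =>
      (congrArg (evAt F G x.1) (Mero.germ_smul F U.unop x.1 x.2 r s)).trans
        (map_smul (evAt F G x.1) _ _))⟩

theorem evalStalk_eta (x : X) (v : F.presheaf.stalk x) :
    RefHull.evalStalk (RefHull.homSh F G) G x (RefHull.stalkMapₗ (eta F G) x v) = evAt F G x v := by
  obtain ⟨U, hU, m, rfl⟩ := TopCat.Presheaf.exists_germ_eq F.presheaf v
  rw [RefHull.stalkMapₗ_germ, RefHull.evalStalk_germ]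
  rfl

/-- At a point where `G` is one-dimensional over a field, evaluation is bijective. -/
theorem bijective_evAt (x : X) (hK : IsField (X.presheaf.stalk x)) (hF : CohB1.IsFP F)
    [Module.Finite (X.presheaf.stalk x) (F.presheaf.stalk x)]
    (hG : Module.finrank (X.presheaf.stalk x) (G.presheaf.stalk x) = 1) :
    Function.Bijective (evAt F G x) := by
  letI := hK.toField
  let e := LinearEquiv.ofBijective (RefHull.evalStalk F G x) (RefX.evalStalk_bijective (G := G) hF x)
  obtain ⟨c⟩ : Nonempty (G.presheaf.stalk x ≃ₗ[X.presheaf.stalk x] X.presheaf.stalk x) := by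
    haveI := Module.finite_of_finrank_eq_succ hG
    exact FiniteDimensional.nonempty_linearEquiv_of_finrank_eq (by rw [hG, Module.finrank_self])
  let c' : (F.presheaf.stalk x →ₗ[X.presheaf.stalk x] G.presheaf.stalk x) ≃ₗ[X.presheaf.stalk x]
      Module.Dual (X.presheaf.stalk x) (F.presheaf.stalk x) := LinearEquiv.congrRight c
  let e' : (RefHull.homSh F G).presheaf.stalk x ≃ₗ[X.presheaf.stalk x]
      Module.Dual (X.presheaf.stalk x) (F.presheaf.stalk x) := LinearEquiv.trans
    (show (RefHull.homSh F G).presheaf.stalk x ≃ₗ[X.presheaf.stalk x] (F.presheaf.stalk x →ₗ[X.presheaf.stalk x] G.presheaf.stalk x) from e) c'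
  let d : ((RefHull.homSh F G).presheaf.stalk x →ₗ[X.presheaf.stalk x] G.presheaf.stalk x) ≃ₗ[X.presheaf.stalk x]
      Module.Dual (X.presheaf.stalk x) (Module.Dual (X.presheaf.stalk x) (F.presheaf.stalk x)) :=
    LinearEquiv.arrowCongr e' c
  have h : (fun v => d (evAt F G x v)) = Module.Dual.eval (X.presheaf.stalk x) (F.presheaf.stalk x) := by
    refine funext fun v => LinearMap.ext fun φ => ?_
    show c (RefHull.evalStalk F G x (e.symm ((LinearEquiv.congrRight c).symm φ)) v) = φ v
    rw [show RefHull.evalStalk F G x (e.symm ((LinearEquiv.congrRight c).symm φ)) =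
      (LinearEquiv.congrRight c).symm φ from e.apply_symm_apply _]
    show c (c.symm (φ v)) = φ v
    exact c.apply_symm_apply _
  have h2 := Module.bijective_dual_eval (X.presheaf.stalk x) (F.presheaf.stalk x)
  rw [← h] at h2
  exact (Function.Bijective.of_comp_iff' d.bijective _).1 h2

end Eta

variable {k : Type u} [Field k] {X : Scheme.{u}} [X.Over (Spec (CommRingCat.of k))]
  [IsProper (X ↘ Spec (CommRingCat.of k))] [IsIntegral X] (hdim : topologicalKrullDim X = 1)
  {ω : X.Modules} {t : Coh.HH X ω 1 →ₗ[k] k} (hω : Canon.IsRDualOver k X 1 ω t) (hωc : Coh.IsCoh ω)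

include hdim in
theorem isClosed_of_ne_generic {y : X} (hy : y ≠ genericPoint X) : IsClosed ({y} : Set X) := by
  refine closure_subset_iff_isClosed.1 fun z hz => ?_
  by_contra hzy
  haveI : T0Space X := inferInstance
  have h1 : genericPoint X ⤳ y := genericPoint_specializes y
  have h2 : y ⤳ z := specializes_iff_mem_closure.2 hz
  have hzy' : z ≠ y := hzy
  let c0 : IrreducibleCloseds X := ⟨closure {z}, isIrreducible_singleton.closure, isClosed_closure⟩
  let c1 : IrreducibleCloseds X := ⟨closure {y}, isIrreducible_singleton.closure, isClosed_closure⟩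
  let c2 : IrreducibleCloseds X := ⟨closure {genericPoint X}, isIrreducible_singleton.closure, isClosed_closure⟩
  have l01 : c0 < c1 := lt_of_le_of_ne (h2.closure_subset) fun h => hzy'
    ((inseparable_iff_closure_eq.2 (congrArg SetLike.coe h)).eq)
  have l12 : c1 < c2 := lt_of_le_of_ne (h1.closure_subset) fun h => hy
    ((inseparable_iff_closure_eq.2 (congrArg SetLike.coe h)).eq)
  let s : LTSeries (IrreducibleCloseds X) := ((RelSeries.singleton _ c0).snoc c1 l01).snoc c2 (by simpa using l12)
  have hs := Order.LTSeries.length_le_krullDim s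
  have hd : Order.krullDim (IrreducibleCloseds X) = 1 := hdim
  rw [hd] at hs
  have h' : (s.length : ℕ) ≤ 1 := by exact_mod_cast hs
  simp [s] at h'

include hdim hω hωc in
/-- The dualizing module of an integral curve is torsion free. -/
theorem isTorsionFree_dualizing : TorSh.IsTorsionFree ω := fun x => by
  haveI := CurveCohLib.isNoetherian_of_proper (k := k) (X := X)
  refine Module.IsTorsionFree.of_smul_eq_zero fun r v hrv => ?_
  by_contra hcon
  push Not at hcon
  obtain ⟨hr, hv⟩ := hcon
  obtain ⟨U, hxU, s, rfl⟩ := TopCat.Presheaf.exists_germ_eq ω.presheaf v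
  obtain ⟨U', hxU', r', rfl⟩ := TopCat.Presheaf.exists_germ_eq X.presheaf r
  let V := U ⊓ U'
  let s' : Γ(ω, V) := AModX.res ω inf_le_left s
  let r'' : Γ(X, V) := AModX.resR inf_le_right r'
  have hs' : ω.presheaf.germ V x ⟨hxU, hxU'⟩ s' = ω.presheaf.germ U x hxU s :=
    TopCat.Presheaf.germ_res_apply ω.presheaf _ x _ s
  have hr'' : X.presheaf.germ V x ⟨hxU, hxU'⟩ r'' = X.presheaf.germ U' x hxU' r' :=
    TopCat.Presheaf.germ_res_apply X.presheaf _ x _ r'
  have h0 : ω.presheaf.germ V x ⟨hxU, hxU'⟩ (r'' • s') = 0 := by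
    rw [QCoh.germ_smul', hs', hr'', hrv]
  obtain ⟨W, hxW, i₁, i₂, hW⟩ := TopCat.Presheaf.germ_eq ω.presheaf (U := V) (V := V) x ⟨hxU, hxU'⟩ ⟨hxU, hxU'⟩ (r'' • s') 0
    (h0.trans (map_zero _).symm)
  have hgenW : genericPoint X ∈ W := (genericPoint_specializes x).mem_open W.isOpen hxW
  have hgenV : genericPoint X ∈ V := i₁.le hgenW
  -- the section vanishes generically
  have hgen : ω.presheaf.germ V (genericPoint X) hgenV s' = 0 := by
    have h1 : ω.presheaf.germ V (genericPoint X) hgenV (r'' • s') = 0 := by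
      rw [← TopCat.Presheaf.germ_res_apply ω.presheaf i₁ _ hgenW, hW, map_zero, map_zero]
    rw [QCoh.germ_smul'] at h1
    letI := (CurveBundle.isField_stalk_generic (X := X)).toField
    refine (smul_eq_zero.1 h1).resolve_left fun hz => hr ?_
    haveI : Nonempty V := ⟨⟨x, ⟨hxU, hxU'⟩⟩⟩
    rw [← hr'', (germ_injective_of_isIntegral X (genericPoint X) hgenV) (hz.trans (map_zero _).symm), map_zero]
  -- the points where it does not vanish
  let Z : Set X := {y | ∃ hy : y ∈ V, ω.presheaf.germ V y hy s' ≠ 0}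
  obtain ⟨W₀, hW₀g, j₁, j₂, hW₀⟩ := TopCat.Presheaf.germ_eq ω.presheaf (U := V) (V := V) (genericPoint X) hgenV hgenV s' 0
    (hgen.trans (map_zero _).symm)
  have hZW : Z ⊆ (W₀ : Set X)ᶜ := fun y hy hyW => hy.2 (by
    rw [← TopCat.Presheaf.germ_res_apply ω.presheaf j₁ y hyW, hW₀, map_zero, map_zero])
  have hfin : ((W₀ : Set X)ᶜ).Finite := GenusLe.finite_of_isClosed_points W₀.isOpen.isClosed_compl
    fun z hz => isClosed_of_ne_generic hdim fun h => hz (h ▸ hW₀g)
  have hxne : x ≠ genericPoint X := by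
    rintro rfl
    exact hv (hs'.symm.trans hgen)
  have hxc := isClosed_of_ne_generic hdim hxne
  -- an open neighbourhood meeting the support only at `x`
  have hrest : IsClosed (((W₀ : Set X)ᶜ) \ {x}) := by
    rw [← Set.biUnion_of_singleton (((W₀ : Set X)ᶜ) \ {x})]
    exact (hfin.subset Set.sdiff_subset).isClosed_biUnion fun z hz =>
      isClosed_of_ne_generic hdim fun h => hz.1 (h ▸ hW₀g)
  let A : X.Opens := V ⊓ ⟨_, hrest.isOpen_compl⟩
  let B : X.Opens := ⟨_, hxc.isOpen_compl⟩
  have hxA : x ∈ A := ⟨⟨hxU, hxU'⟩, fun h => h.2 rfl⟩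
  obtain ⟨σ, hσ, -⟩ := AModX.existsUnique_glue (M := ω) (V := ⊤) (fun b : ULift.{u} Bool => if b.down then A else B)
    (fun _ => le_top) (fun p _ => by
      by_cases hp : p = x
      · exact ⟨⟨true⟩, hp ▸ hxA⟩
      · exact ⟨⟨false⟩, hp⟩)
    (fun b => match b with
      | ⟨true⟩ => AModX.res ω inf_le_left s'
      | ⟨false⟩ => 0)
    (by
      have hkey : ∀ (y : X) (hy : y ∈ A), y ≠ x →
          ω.presheaf.germ A y hy (AModX.res ω inf_le_left s') = 0 := fun y hy hne => by
        rw [show ω.presheaf.germ A y hy (AModX.res ω inf_le_left s') = ω.presheaf.germ V y hy.1 s' from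
          TopCat.Presheaf.germ_res_apply ω.presheaf _ y _ _]
        by_contra hn
        exact hy.2 ⟨hZW ⟨hy.1, hn⟩, hne⟩
      rintro ⟨_ | _⟩ ⟨_ | _⟩
      · simp
      · refine ZClosLib.section_ext ω _ _ fun y hy => ?_
        rw [RefX.germ_res, RefX.germ_res]
        exact (map_zero _).trans (hkey y hy.2 hy.1).symm
      · refine ZClosLib.section_ext ω _ _ fun y hy => ?_
        rw [RefX.germ_res, RefX.germ_res]
        exact (hkey y hy.1 hy.2).trans (map_zero _).symm
      · rfl)
  have hσA : ω.presheaf.germ ⊤ x trivial σ = ω.presheaf.germ U x hxU s := by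
    rw [← RefX.germ_res ω (le_top : A ≤ ⊤) hxA σ]
    refine (congrArg (ω.presheaf.germ A x hxA) (hσ ⟨true⟩)).trans ?_
    exact (RefX.germ_res ω inf_le_left hxA s').trans hs'
  have hσ0 : ∀ y, y ≠ x → ω.presheaf.germ ⊤ y trivial σ = 0 := fun y hy => by
    rw [← RefX.germ_res ω (le_top : B ≤ ⊤) hy σ]
    exact (congrArg (ω.presheaf.germ B y hy) (hσ ⟨false⟩)).trans (map_zero _)
  let φ : Coh.structureModule X ⟶ ω := InvX.ofSect σ
  let G := Limits.image φ
  let ι : G ⟶ ω := Limits.image.ι φ
  have hGc : Coh.IsCoh G := QCoh.isCoh_of_mono ι hωc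
    ((QCoh.isQCoh_iff_iso (Abelian.imageIsoImage φ)).1
      (QCoh.isQCoh_kernel hωc.1 (QCoh.isQCoh_cokernel QCoh.isQCoh_structureModule hωc.1 φ) _))
  have hone : ∀ y : X, ω.presheaf.germ ⊤ y trivial σ =
      TFOneX.sm φ y ((Coh.structureModule X).presheaf.germ ⊤ y trivial (show Γ(Coh.structureModule X, ⊤) from (1 : Γ(X, ⊤)))) := fun y => by
    rw [TFOneX.sm, DerSch.stalkFunctor_map_germ]
    exact congrArg (ω.presheaf.germ ⊤ y trivial) (InvX.one_ofSect σ).symm
  have hsm : ∀ y, y ≠ x → ∀ a, TFOneX.sm φ y a = 0 := fun y hy a => by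
    obtain ⟨O, hyO, f, rfl⟩ := TopCat.Presheaf.exists_germ_eq (Coh.structureModule X).presheaf a
    have ha : (Coh.structureModule X).presheaf.germ O y hyO f = (X.presheaf.germ O y hyO (show Γ(X, O) from f)) •
        (Coh.structureModule X).presheaf.germ ⊤ y trivial (show Γ(Coh.structureModule X, ⊤) from (1 : Γ(X, ⊤))) := by
      rw [← RefX.germ_res (Coh.structureModule X) (le_top : O ≤ ⊤) hyO, ← QCoh.germ_smul']
      refine congrArg _ ?_
      show f = (show Γ(X, O) from f) * AModX.resR le_top (1 : Γ(X, ⊤))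
      rw [map_one, mul_one]
    rw [ha, map_smul, ← hone y, hσ0 y hy, smul_zero]
  have hι : ι = 0 := CurveDual.hom_eq_zero_of_finite_support hω hGc (fun y hy => by
    by_cases hyx : y = x
    · exact hyx ▸ hxc
    · exfalso
      refine hy ?_
      refine subsingleton_of_forall_eq 0 fun g => ?_
      obtain ⟨a, rfl⟩ := TFOneX.surjective_sm (Limits.factorThruImage φ) y g
      refine TFOneX.injective_sm ι y ?_
      rw [← TFOneX.sm_comp, Limits.image.fac, hsm y hyx, map_zero]) ι
  have hφ : φ = 0 := by rw [← Limits.image.fac φ, show Limits.image.ι φ = 0 from hι, comp_zero]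
  refine hv ?_
  rw [← hσA, hone, hφ, TFOneX.sm_zero]

include hdim hω hωc in
/-- The dualizing module of an integral curve has rank one. -/
theorem rk_dualizing : CurveBundle.rk ω = 1 := by
  haveI := CurveCohLib.isNoetherian_of_proper (k := k) (X := X)
  haveI : X.IsSeparated := ⟨by
    rw [← terminal.comp_from (X ↘ Spec (CommRingCat.of k))]
    infer_instance⟩
  have hdep : ∀ x : X, IsClosed ({x} : Set X) →
      (1 : ℕ∞) ≤ LocCoh.depth (X.presheaf.stalk x) ((Coh.structureModule X).presheaf.stalk x) :=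
    depth_of_torsionFree hdim QCoh.isCoh_structureModule' TFOneX.isTorsionFree_structure
  obtain ⟨A, hA⟩ := DimOneAmple.exists_isAmple (X := X) hdim.le
  obtain ⟨B, hB, hAB⟩ := H23.PicInv.exists_inverse hA.1
  obtain ⟨n₁, h1⟩ := NegVanAmple.exists_vanishing (X ↘ Spec (CommRingCat.of k)) hA (M := B) hAB
    (QCoh.isCoh_structureModule' (X := X)) 1 hdep 0 zero_lt_one
  obtain ⟨n₂, h2⟩ := AmpleVan.exists_vanishing (A := k) hA hωc
  set n := n₁ + n₂ + 1 with hn
  let P := CohB1.tensorPow A n
  let M := CohB1.tensorPow B n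
  have hP : PicF.IsInvertible P := H23.PicMul.isInvertible_tensorPow hA.1 n
  have hM : PicF.IsInvertible M := H23.PicMul.isInvertible_tensorPow hB n
  obtain ⟨w⟩ : Nonempty ((SheafHomX.ten P).obj M ≅ Coh.structureModule X) := by
    letI := H23.PicMul.clMonoid X
    refine H23.PicMul.cl_eq_iff.1 ?_
    show PicF.cl (CohB1.tensorMod M P) = 1
    have h1' : PicF.cl A * PicF.cl B = 1 := H23.PicMul.cl_eq_iff.2 hAB
    rw [H23.PicMul.cl_tensor, H23.PicMul.cl_tensorPow, H23.PicMul.cl_tensorPow,
      ← mul_pow, mul_comm, h1', one_pow]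
  have e := CurveDual.finrank_H0_twist hω (M := M) (CurveDeg.isCoh_of_isInvertible hM).1 hP w.symm
  change (Module.finrank k (Coh.HH X (CohB1.tensorMod ω P) 0)) = _ at e
  have hωn : Coh.IsCoh (CohB1.tensorMod ω P) := ParShLib.isCoh_tensorMod hωc (CurveDeg.isCoh_of_isInvertible hP)
  let v : CohB1.tensorMod (Coh.structureModule X) M ≅ M := KFlatLib.structureTensorIso M
  haveI := h2 n (by omega) 0
  haveI := h1 n (by omega)
  haveI : Subsingleton (Coh.HH X M 0) := (CurveCohLib.hhEquiv (k := k) v 0).symm.toEquiv.subsingleton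
  have c1 : Curv2.euler k X (CohB1.tensorMod ω P) = - Curv2.euler k X M := by
    rw [NefH1.euler_eq k hdim.le hωn.1, NefH1.euler_eq k hdim.le (CurveDeg.isCoh_of_isInvertible hM).1,
      Module.finrank_zero_of_subsingleton (R := k) (M := Coh.HH X M 0),
      Module.finrank_zero_of_subsingleton (R := k) (M := Coh.HH X (CohB1.tensorMod ω P) (0 + 1)), e]
    simp
  obtain ⟨cc⟩ : Nonempty (CohB1.tensorMod ω P ≅ CohB1.tensorMod P ω) := by
    letI := H23.PicMul.clMonoid X
    refine H23.PicMul.cl_eq_iff.1 ?_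
    rw [H23.PicMul.cl_tensor, H23.PicMul.cl_tensor, mul_comm]
  have c2 := CurveTensor.euler_tensor k hdim (InvEnd.isFinLocFreeOfRank_one hP) hωc
  rw [CurveCohLib.euler_congr (k := k) cc] at c1
  change Curv2.euler k X (CohB1.tensorMod P ω) = _ at c2
  have c3 := CurveDual.euler_structure hdim.le hdep hω hωc
  have c4 : Curv2.deg k X M 1 + Curv2.deg k X P 1 = 0 := by
    rw [← CurveRR.deg_tensor k hdim hM hP]
    exact (by
      unfold Curv2.deg
      rw [CurveCohLib.euler_congr (k := k) (show (DCoh.tensorBi.obj M).obj P ≅ Coh.structureModule X from w)]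
      simp : Curv2.deg k X ((DCoh.tensorBi.obj M).obj P) 1 = 0)
  have c5 : 0 < Curv2.deg k X P 1 := by
    rw [CurveAmple.deg_tensorPow (k := k) hdim hA.1 n]
    exact mul_pos (by omega) (CurveAmple.deg_pos_of_ample (k := k) hdim hA)
  have c6 : Curv2.euler k X M = Curv2.deg k X M 1 + Curv2.euler k X (Coh.structureModule X) := by
    unfold Curv2.deg
    push_cast
    ring
  have c7 : ((CurveBundle.rk ω : ℤ) - 1) * Curv2.deg k X P 1 = 0 := by
    rw [c1, c6] at c2
    push_cast at c2
    linarith
  rcases mul_eq_zero.1 c7 with h | h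
  · omega
  · omega

include hdim hω hωc in
/-- Biduality. -/
theorem exists_isIso_eta {F : X.Modules} (hF : Coh.IsCoh F) (hFt : TorSh.IsTorsionFree F) :
    IsIso (eta F ω) := by
  haveI := CurveCohLib.isNoetherian_of_proper (k := k) (X := X)
  have hωt := isTorsionFree_dualizing hdim hω hωc
  let D := RefHull.homSh F ω
  have hDc : Coh.IsCoh D := RefX.isCoh_homSh hF hωc
  have hDt : TorSh.IsTorsionFree D := S16082.result X F ω hF.1 (QCoh.isCoh_iff_isFP.1 hF) hωc.1 hωt
  let E := RefHull.homSh D ω
  have hEc : Coh.IsCoh E := RefX.isCoh_homSh hDc hωc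
  let g := genericPoint X
  haveI : Module.Finite (X.presheaf.stalk g) (F.presheaf.stalk g) := QCoh.finite_stalk_of_isFT hF.1 hF.2 g
  have hbij : Function.Bijective (RefHull.stalkMapₗ (eta F ω) g) := by
    have hev := bijective_evAt F ω g CurveBundle.isField_stalk_generic (QCoh.isCoh_iff_isFP.1 hF)
      (rk_dualizing hdim hω hωc)
    have hcomp : (fun v => RefHull.evalStalk D ω g (RefHull.stalkMapₗ (eta F ω) g v)) = evAt F ω g :=
      funext fun v => evalStalk_eta F ω g v
    refine (Function.Bijective.of_comp_iff' (RefX.evalStalk_bijective (G := ω) (QCoh.isCoh_iff_isFP.1 hDc) g) _).1 ?_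
    show Function.Bijective fun v => RefHull.evalStalk D ω g (RefHull.stalkMapₗ (eta F ω) g v)
    rw [hcomp]
    exact hev
  have hgen : ∀ η ∈ genericPoints (X : Type u), η = g := fun η hη =>
    (TFCurvLib.eq_of_specializes_of_isField (NormAmpleX.isField_stalk_of_generic hη) (genericPoint_specializes η)).symm
  haveI : Mono (eta F ω) := Preadditive.mono_of_cancel_zero _ fun {Z} a ha =>
    TFOneX.hom_eq_zero hF.1 hFt a fun η hη _ b => by
      obtain rfl := hgen η hη
      refine hbij.1 ?_
      rw [map_zero]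
      have h1 : TFOneX.sm (a ≫ eta F ω) g b = 0 := by rw [ha, TFOneX.sm_zero]
      rw [TFOneX.sm_comp] at h1
      exact h1
  have hQ : Coh.IsCoh (cokernel (eta F ω)) := QCoh.isCoh_cokernel hF.1 hEc _
  have hsupp : ∀ y ∈ CohB1.support (cokernel (eta F ω)), closure {y} = ({y} : Set X) := fun y hy =>
    (isClosed_of_ne_generic hdim fun h => by
      subst h
      refine hy (subsingleton_of_forall_eq 0 fun q => ?_)
      obtain ⟨b, rfl⟩ := TFOneX.surjective_sm (cokernel.π (eta F ω)) g q
      obtain ⟨v, rfl⟩ := hbij.2 b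
      show TFOneX.sm (cokernel.π (eta F ω)) g (TFOneX.sm (eta F ω) g v) = 0
      rw [← TFOneX.sm_comp, cokernel.condition, TFOneX.sm_zero]).closure_eq
  let S := ShortComplex.mk (eta F ω) (cokernel.π (eta F ω)) (cokernel.condition _)
  haveI : Mono S.f := ‹Mono (eta F ω)›
  haveI : Epi S.g := inferInstanceAs (Epi (cokernel.π (eta F ω)))
  have hS : S.ShortExact := { exact := ShortComplex.exact_cokernel _ }
  have hadd := CurveCohLib.euler_additive (k := k) hS hF hEc hQ
  have e1 := euler_hom_dualizing hdim.le hω hωc hF (depth_of_torsionFree hdim hF hFt)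
  have e2 := euler_hom_dualizing hdim.le hω hωc hDc (depth_of_torsionFree hdim hDc hDt)
  have hgood := Euler.good_of_support hQ hsupp
  have h0 : Module.finrank k (Coh.HH X (cokernel (eta F ω)) 0) = 0 := by
    haveI := hgood.1 1 le_rfl
    have h := NefH1.euler_eq k hdim.le hQ.1
    rw [Module.finrank_zero_of_subsingleton (R := k) (M := Coh.HH X (cokernel (eta F ω)) 1)] at h
    change Curv2.euler k X E = Curv2.euler k X F + Curv2.euler k X (cokernel (eta F ω)) at hadd
    change Curv2.euler k X D = _ at e1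
    change Curv2.euler k X E = - Curv2.euler k X D at e2
    omega
  haveI := CurveCohLib.finite_HH (k := k) hQ 0
  haveI : Subsingleton (Coh.HH X (cokernel (eta F ω)) 0) := Module.finrank_zero_iff.1 h0
  have hπ : cokernel.π (eta F ω) = 0 := by
    have hid : 𝟙 (cokernel (eta F ω)) = 0 := hgood.2 _ _ fun s => by
      rw [Category.comp_id]
      haveI : HasExt.{u} X.Modules := IsGrothendieckAbelian.hasExt _
      exact (CurveDual.bijective_extH₀ _).1
        (Subsingleton.elim (α := Coh.HH X (cokernel (eta F ω)) 0) _ _)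
    rw [← Category.comp_id (cokernel.π (eta F ω)), hid, comp_zero]
  haveI : Epi (eta F ω) := Abelian.epi_of_cokernel_π_eq_zero _ hπ
  exact isIso_of_mono_of_epi _

end Groth.Agent.CurveDual18
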