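import Groth.Agent.CurveDual.Props
import Groth.Agent.Synt29.LMHom

/-!
Euler characteristics of the duals of coherent modules on a curve.
-/

set_option autoImplicit false
set_option linter.style.haveILetI false
set_option linter.unusedSectionVars false
set_option backward.isDefEq.respectTransparency false
set_option backward.isDefEq.respectTransparency.types false
set_option maxHeartbeats 1000000

universe u

open CategoryTheory CategoryTheory.Limits AlgebraicGeometry TopologicalSpace Opposite

noncomputable section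

namespace Groth.Agent.CurveDual18

open Groth.Agent

/-- Torsion-free finite modules over a local domain which is no field have positive depth. -/
theorem one_le_depth_torsionFree {R : Type u} [CommRing R] [IsLocalRing R] [IsDomain R] [IsNoetherianRing R]
    (hR : (1 : WithBot ℕ∞) ≤ ringKrullDim R) {M : Type u} [AddCommGroup M] [Module R M] [Module.Finite R M]
    [Module.IsTorsionFree R M] : (1 : ℕ∞) ≤ LocCoh.depth R M := by
  rw [Alg6.one_le_depth_iff]
  intro hass
  obtain ⟨-, a, ha⟩ := isAssociatedPrime_iff.1 hass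
  have hnf : IsLocalRing.maximalIdeal R ≠ ⊥ := fun h => by
    have h0 := ringKrullDim_eq_zero_of_isField ((IsLocalRing.isField_iff_maximalIdeal_eq).2 h)
    rw [h0] at hR
    exact absurd hR (by norm_num)
  obtain ⟨r, hr, hr0⟩ := Submodule.exists_mem_ne_zero_of_ne_bot hnf
  have ha0 : a ≠ 0 := by
    rintro rfl
    refine (IsLocalRing.maximalIdeal.isMaximal R).ne_top ?_
    rw [ha, Ideal.eq_top_iff_one, Submodule.mem_colon_singleton, smul_zero]
    exact zero_mem _
  rw [ha, Submodule.mem_colon_singleton, Submodule.mem_bot] at hr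
  exact (smul_ne_zero hr0 ha0) hr

variable {k : Type u} [Field k] {X : Scheme.{u}} [X.Over (Spec (CommRingCat.of k))]
  [IsProper (X ↘ Spec (CommRingCat.of k))] {ω : X.Modules} {t : Coh.HH X ω 1 →ₗ[k] k}

/-- Sections of twisted duals. -/
theorem finrank_H0_hom_twist (hω : Canon.IsRDualOver k X 1 ω t) {F M P : X.Modules}
    (hMF : Coh.IsQCoh ((SheafHomX.ten F).obj M))
    (hP : PicF.IsInvertible P) (u : Coh.structureModule X ≅ (SheafHomX.ten P).obj M) :
    Module.finrank k (Coh.HH X ((SheafHomX.ten P).obj ((SheafHomX.hom F).obj ω)) 0) =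
      Module.finrank k (Coh.HH X ((SheafHomX.ten F).obj M) 1) := by
  haveI := H23.Chern.isEquivalence_ten hP
  haveI : (SheafHomX.ten P).IsEquivalence :=
    Functor.isEquivalence_of_iso ((KFlatLib.tensorBiFlipIso X).app P).symm
  let H := (SheafHomX.hom F).obj ω
  rw [← (CurveDual.homH0 ((SheafHomX.ten P).obj H)).finrank_eq, ← CurveDual.finrank_hom hω hMF]
  let e₁ : (M ⟶ H) →ₗ[k] ((SheafHomX.ten F).obj M ⟶ ω) :=
    { toFun := fun φ => ((SheafHomX.adj F).homEquiv M ω).symm φ
      map_add' := fun φ ψ => by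
        show ((SheafHomX.adj F).homEquiv M ω).symm (φ + ψ) = _
        rw [Adjunction.homEquiv_counit, Adjunction.homEquiv_counit, Adjunction.homEquiv_counit,
          Functor.map_add, Preadditive.add_comp]
      map_smul' := fun a φ => by
        show ((SheafHomX.adj F).homEquiv M ω).symm (a • φ) = _
        rw [RingHom.id_apply, Adjunction.homEquiv_counit, Adjunction.homEquiv_counit,
          CurveDual.smul_map_ten, Linear.smul_comp] }
  let e₂ : (M ⟶ H) →ₗ[k] (Coh.structureModule X ⟶ (SheafHomX.ten P).obj H) :=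
    { toFun := fun φ => u.hom ≫ (SheafHomX.ten P).map φ
      map_add' := fun φ ψ => by rw [Functor.map_add, Preadditive.comp_add]
      map_smul' := fun a φ => by rw [RingHom.id_apply, CurveDual.smul_map_ten, Linear.comp_smul] }
  have h1 := (LinearEquiv.ofBijective e₁ ((SheafHomX.adj F).homEquiv M ω).symm.bijective).finrank_eq
  have h2 := (LinearEquiv.ofBijective e₂ ⟨fun φ ψ h => (SheafHomX.ten P).map_injective ((cancel_epi u.hom).1 h),
    fun g => by
      obtain ⟨φ, hφ⟩ := (SheafHomX.ten P).map_surjective (u.inv ≫ g)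
      refine ⟨φ, ?_⟩
      show u.hom ≫ (SheafHomX.ten P).map φ = g
      rw [hφ, Iso.hom_inv_id_assoc]⟩).finrank_eq
  exact h2.symm.trans h1

/-- `χ(Hom(F, ω)) = -χ(F)`. -/
theorem euler_hom_dualizing (hdim : topologicalKrullDim X ≤ 1) (hω : Canon.IsRDualOver k X 1 ω t) (hωc : Coh.IsCoh ω)
    {F : X.Modules} (hF : Coh.IsCoh F)
    (hdep : ∀ x : X, IsClosed ({x} : Set X) → (1 : ℕ∞) ≤ LocCoh.depth (X.presheaf.stalk x) (F.presheaf.stalk x)) :
    Curv2.euler k X (RefHull.homSh F ω) = -Curv2.euler k X F := by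
  haveI := CurveCohLib.isNoetherian_of_proper (k := k) (X := X)
  haveI : X.IsSeparated := ⟨by
    rw [← terminal.comp_from (X ↘ Spec (CommRingCat.of k))]
    infer_instance⟩
  obtain ⟨w₀⟩ := Synt29.LMHom.nonempty_hom_iso_homSh (QCoh.isCoh_iff_isFP.1 hF) ω
  let H := (SheafHomX.hom F).obj ω
  have hHc : Coh.IsCoh H := RefX.isCoh_of_iso w₀.symm (RefX.isCoh_homSh hF hωc)
  rw [← CurveCohLib.euler_congr (k := k) w₀]
  obtain ⟨A, hA⟩ := DimOneAmple.exists_isAmple (X := X) hdim
  obtain ⟨B, hB, hAB⟩ := H23.PicInv.exists_inverse hA.1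
  obtain ⟨n₁, h1⟩ := NegVanAmple.exists_vanishing (X ↘ Spec (CommRingCat.of k)) hA (M := B) hAB
    hF 1 hdep 0 zero_lt_one
  obtain ⟨n₂, h2⟩ := AmpleVan.exists_vanishing (A := k) hA hHc
  obtain ⟨a, ha⟩ := CurveDual.euler_affine (k := k) hdim hA.1 hHc
  obtain ⟨b, hb⟩ := CurveDual.euler_affine (k := k) hdim hB hF
  have key : ∀ n, n₁ ≤ n → n₂ ≤ n →
      Curv2.euler k X H + n * a + (Curv2.euler k X F + n * b) = 0 := fun n hn1 hn2 => by
    let P := CohB1.tensorPow A n
    let M := CohB1.tensorPow B n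
    have hM : PicF.IsInvertible M := H23.PicMul.isInvertible_tensorPow hB n
    obtain ⟨w⟩ : Nonempty ((SheafHomX.ten P).obj M ≅ Coh.structureModule X) := by
      letI := H23.PicMul.clMonoid X
      refine H23.PicMul.cl_eq_iff.1 ?_
      show PicF.cl (CohB1.tensorMod M P) = 1
      have h1' : PicF.cl A * PicF.cl B = 1 := H23.PicMul.cl_eq_iff.2 hAB
      rw [H23.PicMul.cl_tensor, H23.PicMul.cl_tensorPow, H23.PicMul.cl_tensorPow,
        ← mul_pow, mul_comm, h1', one_pow]
    have hFM : Coh.IsCoh (CohB1.tensorMod F M) := ParShLib.isCoh_tensorMod hF (CurveDeg.isCoh_of_isInvertible hM)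
    have hMF : Coh.IsCoh ((SheafHomX.ten F).obj M) := ParShLib.isCoh_tensorMod (CurveDeg.isCoh_of_isInvertible hM) hF
    obtain ⟨c⟩ : Nonempty (CohB1.tensorMod F M ≅ (SheafHomX.ten F).obj M) := by
      letI := H23.PicMul.clMonoid X
      refine H23.PicMul.cl_eq_iff.1 ?_
      show PicF.cl (CohB1.tensorMod F M) = PicF.cl (CohB1.tensorMod M F)
      rw [H23.PicMul.cl_tensor, H23.PicMul.cl_tensor, mul_comm]
    have e := finrank_H0_hom_twist hω (F := F) (M := M) hMF.1 (H23.PicMul.isInvertible_tensorPow hA.1 n) w.symm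
    have hHn : Coh.IsCoh (CohB1.tensorMod H P) :=
      ParShLib.isCoh_tensorMod hHc (CurveDeg.isCoh_of_isInvertible (H23.PicMul.isInvertible_tensorPow hA.1 n))
    rw [← ha n, ← hb n, NefH1.euler_eq k hdim hHn.1, NefH1.euler_eq k hdim hFM.1]
    haveI := h1 n hn1
    haveI := h2 n hn2 0
    rw [Module.finrank_zero_of_subsingleton (R := k) (M := Coh.HH X (CohB1.tensorMod F M) 0),
      Module.finrank_zero_of_subsingleton (R := k) (M := Coh.HH X (CohB1.tensorMod H P) (0 + 1))]
    change (Module.finrank k (Coh.HH X (CohB1.tensorMod H P) 0)) = _ at e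
    rw [e, (CurveCohLib.hhEquiv (k := k) c 1).finrank_eq]
    simp
  have e1 := key (n₁ + n₂) (by omega) (by omega)
  have e2 := key (n₁ + n₂ + 1) (by omega) (by omega)
  push_cast at e1 e2
  linear_combination ((n₁ + n₂ : ℤ) + 1) * e1 - (n₁ + n₂ : ℤ) * e2

/-- Positive depth of torsion-free coherent modules on an integral curve. -/
theorem depth_of_torsionFree [IsIntegral X] [AlgebraicGeometry.IsNoetherian X] (hdim : topologicalKrullDim X = 1) {F : X.Modules} (hF : Coh.IsCoh F)
    (hFt : TorSh.IsTorsionFree F) (x : X) (hx : IsClosed ({x} : Set X)) :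
    (1 : ℕ∞) ≤ LocCoh.depth (X.presheaf.stalk x) (F.presheaf.stalk x) := by
  haveI : Module.Finite (X.presheaf.stalk x) (F.presheaf.stalk x) := QCoh.finite_stalk_of_isFT hF.1 hF.2 x
  haveI : Module.IsTorsionFree (X.presheaf.stalk x) (F.presheaf.stalk x) := hFt x
  exact one_le_depth_torsionFree (CurveDual.one_le_dim_stalk (CurveDual.notMem_gen hdim hx))

end Groth.Agent.CurveDual18
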