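import Groth.Agent.CurveDual.Props
import Groth.Agent.Lib.Euler
import Groth.Agent.QCoh.Extension
import Groth.Agent.TFOneX.Basic
import Groth.Agent.Snapper.DimVanish

/-!
Extensions of modules with finite support by the dualizing module of a curve.
-/

set_option autoImplicit false
set_option linter.style.haveILetI false
set_option linter.unusedSectionVars false
set_option backward.isDefEq.respectTransparency false
set_option backward.isDefEq.respectTransparency.types false
set_option maxHeartbeats 1000000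

universe u

open CategoryTheory CategoryTheory.Limits AlgebraicGeometry TopologicalSpace Opposite
open Groth.Agent.PnCoh.Finite (mapLin)

noncomputable section

namespace Groth.Agent.CurveDual18

open Groth.Agent

variable (k : Type u) [Field k] {X : Scheme.{u}} [X.Over (Spec (CommRingCat.of k))]
  [IsProper (X ↘ Spec (CommRingCat.of k))]

theorem mapLin_zero {A B : X.Modules} (n : ℕ) (x : Coh.HH X A n) : mapLin k (0 : A ⟶ B) n x = 0 := by
  show Sheaf.H.map ((QCoh.toAbFunctor X).map (0 : A ⟶ B)) n x = 0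
  rw [Functor.map_zero]
  show ((Sheaf.functorH _ n).map (0 : Coh.toAb A ⟶ Coh.toAb B)).hom x = 0
  rw [Functor.map_zero]
  rfl

theorem mapLin_comp {A B C : X.Modules} (f : A ⟶ B) (g : B ⟶ C) (n : ℕ) (x : Coh.HH X A n) :
    mapLin k g n (mapLin k f n x) = mapLin k (f ≫ g) n x := by
  show Sheaf.H.map _ n (Sheaf.H.map _ n x) = _
  rw [← Sheaf.H.map_comp_apply, ← Functor.map_comp]
  rfl

/-- Sections as maps out of the structure module. -/
theorem exists_mapLin_oneH (M : X.Modules) (y : Coh.HH X M 0) :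
    ∃ s : Coh.structureModule X ⟶ M, mapLin k s 0 CurveDual.oneH = y :=
  haveI : HasExt.{u} X.Modules := IsGrothendieckAbelian.hasExt _
  (CurveDual.bijective_extH₀ M).2 y

variable {ω : X.Modules} {t : Coh.HH X ω 1 →ₗ[k] k}

/-- An extension by the dualizing module which does not lose `H¹` splits. -/
theorem exists_retraction (hω : Canon.IsRDualOver k X 1 ω t) (hωq : Coh.IsQCoh ω) {E M : X.Modules}
    (i : ω ⟶ E) (p : E ⟶ M) (w : i ≫ p = 0) (hS : (ShortComplex.mk i p w).ShortExact)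
    (hE : Coh.IsQCoh E) (hM : Subsingleton (Coh.HH X M 1)) (hlift : Function.Surjective (mapLin k p 0)) :
    ∃ φ : E ⟶ ω, i ≫ φ = 𝟙 ω := by
  have hinj : Function.Injective (mapLin k i 1) := by
    rw [← LinearMap.ker_eq_bot, eq_bot_iff]
    intro x hx
    obtain ⟨z, hz⟩ := (CurveCohLib.ker_mapLin_f_succ k hS 0).le hx
    obtain ⟨z', hz'⟩ := hlift z
    rw [Submodule.mem_bot, ← hz]
    exact LinearMap.mem_ker.1 ((CurveCohLib.ker_deltaLin k hS 0).ge ⟨z', hz'⟩)
  have hsurj : Function.Surjective (mapLin k i 1) := fun x =>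
    (CurveCohLib.ker_mapLin_g k hS 1).le (LinearMap.mem_ker.2 (hM.elim _ _))
  let e := LinearEquiv.ofBijective (mapLin k i 1) ⟨hinj, hsurj⟩
  obtain ⟨φ, hφ⟩ := (CurveDual.dualEquiv hω hE).surjective (t ∘ₗ e.symm.toLinearMap)
  refine ⟨φ, (CurveDual.dualEquiv hω hωq).injective (LinearMap.ext fun x => ?_)⟩
  show t (mapLin k (i ≫ φ) 1 x) = t (mapLin k (𝟙 ω) 1 x)
  rw [← mapLin_comp k i φ 1 x]
  refine (LinearMap.congr_fun hφ (mapLin k i 1 x)).trans ?_
  show t (e.symm (e x)) = _
  rw [LinearEquiv.symm_apply_apply]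
  refine congrArg t ?_
  show x = Sheaf.H.map ((QCoh.toAbFunctor X).map (𝟙 ω)) 1 x
  rw [CategoryTheory.Functor.map_id]
  exact (Sheaf.H.map_id_apply x).symm

/-- Sections of an extension surject onto the sections of a finite quotient. -/
theorem epi_of_noSection (hω : Canon.IsRDualOver k X 1 ω t) (hωc : Coh.IsCoh ω) (hdim : topologicalKrullDim X = 1)
    (h0 : Module.finrank k (Coh.HH X (Coh.structureModule X) 0) = 1) {F Q : X.Modules} (hF : Coh.IsCoh F)
    (hQ : Coh.IsCoh Q) (f : ω ⟶ F) (g : F ⟶ Q) [Epi g] (w : f ≫ g = 0) (hex : (ShortComplex.mk f g w).Exact)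
    (hQ0 : topologicalKrullDim (CohB1.support Q) ≤ 0) (hQ2 : 2 ≤ Module.finrank k (Coh.HH X Q 0))
    (hno : ∀ (Q' : X.Modules) (i : Q' ⟶ F), Mono i → Mono (i ≫ g) → IsZero Q') :
    ∃ (ι : Type u) (p : (SheafOfModules.free ι : X.Modules) ⟶ F), Epi (p ≫ g) := by
  haveI := CurveCohLib.isNoetherian_of_proper (k := k) (X := X)
  haveI : X.IsSeparated := ⟨by
    rw [← terminal.comp_from (X ↘ Spec (CommRingCat.of k))]
    infer_instance⟩
  haveI := CurveCohLib.finite_HH (k := k) hQ 0
  let P : (SheafOfModules.free (Coh.structureModule X ⟶ F) : X.Modules) ⟶ F :=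
    Sigma.desc fun s : Coh.structureModule X ⟶ F => s
  refine ⟨_, P, ?_⟩
  by_contra hne
  let K := kernel g
  let T : ShortComplex X.Modules := ShortComplex.mk (kernel.ι g) g (kernel.condition g)
  haveI : Epi T.g := ‹Epi g›
  haveI : Mono T.f := inferInstanceAs (Mono (kernel.ι g))
  have hT : T.ShortExact := { exact := ShortComplex.exact_kernel g }
  let ρ : ω ⟶ K := kernel.lift g f w
  haveI : Epi ρ := hex.epi_kernelLift
  have hKc : Coh.IsCoh K := QCoh.isCoh_kernel hF hQ g
  let R : ShortComplex X.Modules := ShortComplex.mk (kernel.ι ρ) ρ (kernel.condition ρ)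
  haveI : Epi R.g := ‹Epi ρ›
  haveI : Mono R.f := inferInstanceAs (Mono (kernel.ι ρ))
  have hR : R.ShortExact := { exact := ShortComplex.exact_kernel ρ }
  have hρ : Function.Surjective (mapLin k ρ 1) := fun x => by
    haveI := Snapper.subsingleton_HH_of_dim_le (X := X) (d := 1) hdim.le
      (QCoh.isQCoh_kernel hωc.1 hKc.1 ρ) one_lt_two
    exact (CurveCohLib.ker_deltaLin k hR 1).le (LinearMap.mem_ker.2 (Subsingleton.elim _ 0))
  have hω1 : Module.finrank k (Coh.HH X ω 1) = 1 :=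
    (CurveDual.finrank_H1 hdim.le (CurveDual.depth_of_h0 hdim h0) hω hωc).trans h0
  haveI := CurveCohLib.finite_HH (k := k) hωc 1
  haveI := CurveCohLib.finite_HH (k := k) hKc 1
  have hK1 : Module.finrank k (Coh.HH X K 1) ≤ 1 := (LinearMap.finrank_le_finrank_of_surjective (f := mapLin k ρ 1) hρ).trans hω1.le
  let δ := PnCoh.Finite.deltaLin k hT 0
  have hker : LinearMap.ker δ = LinearMap.range (mapLin k g 0) := CurveCohLib.ker_deltaLin k hT 0
  -- sections of the image of all sections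
  let M := Limits.image (P ≫ g)
  let ιM : M ⟶ Q := Limits.image.ι (P ≫ g)
  have hfac : ∀ y : Coh.HH X Q 0, δ y = 0 → ∃ z, mapLin k ιM 0 z = y := fun y hy => by
    obtain ⟨x, hx⟩ := hker.le (LinearMap.mem_ker.2 hy)
    obtain ⟨s, hs⟩ := exists_mapLin_oneH k F x
    refine ⟨mapLin k (Sigma.ι (fun _ : (Coh.structureModule X ⟶ F) => Coh.structureModule X) s ≫
      Limits.factorThruImage (P ≫ g)) 0 CurveDual.oneH, ?_⟩
    rw [mapLin_comp, Category.assoc, Limits.image.fac, ← Category.assoc]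
    rw [show Sigma.ι (fun _ : (Coh.structureModule X ⟶ F) => Coh.structureModule X) s ≫ P = s from Sigma.ι_desc _ _,
      ← mapLin_comp, hs, hx]
  have hQgood := Euler.good_of_dim_le_zero k hQ hQ0
  have hM : ¬ Function.Surjective (mapLin k ιM 0) := fun hsurj => hne (by
    have : cokernel.π ιM = 0 := hQgood.2 _ _ fun s => by
      obtain ⟨z, hz⟩ := hsurj (mapLin k s 0 CurveDual.oneH)
      haveI : HasExt.{u} X.Modules := IsGrothendieckAbelian.hasExt _
      refine (CurveDual.bijective_extH₀ _).1 ?_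
      show mapLin k (s ≫ cokernel.π ιM) 0 CurveDual.oneH = mapLin k (0 : _ ⟶ _) 0 CurveDual.oneH
      rw [← mapLin_comp, ← hz, mapLin_comp, cokernel.condition, mapLin_zero, mapLin_zero]
    haveI : Epi ιM := Abelian.epi_of_cokernel_π_eq_zero _ this
    rw [← Limits.image.fac (P ≫ g)]
    infer_instance)
  have hδ0 : δ ≠ 0 := fun h => hM fun y => hfac y (by rw [h, LinearMap.zero_apply])
  obtain ⟨y₀, hy₀⟩ : ∃ y₀, δ y₀ ≠ 0 := by
    by_contra hc
    push Not at hc
    exact hδ0 (LinearMap.ext hc)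
  have hK1' : Module.finrank k (Coh.HH X K 1) = 1 := le_antisymm hK1
    ((Module.finrank_pos_iff_exists_ne_zero).2 ⟨_, hy₀⟩)
  obtain ⟨χ, hχ⟩ := CurveDual.exists_hom_ne hω hKc.1 hy₀
  obtain ⟨z₀, hz₀⟩ := hρ (δ y₀)
  have hρχ : ρ ≫ χ ≠ 0 := fun h => hχ (by
    rw [CurveDual.HHlin_apply]
    refine Eq.trans (congrArg t ?_) (map_zero t)
    show mapLin k χ 1 (δ y₀) = 0
    rw [← hz₀, mapLin_comp, h, mapLin_zero])
  haveI := CurveDual.isIso_of_ne_zero hω hωc hdim h0 (ρ ≫ χ) hρχ
  haveI : Mono ρ := mono_of_mono ρ χ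
  haveI : IsIso ρ := isIso_of_mono_of_epi ρ
  -- lifting on the image
  have hzero : ∀ z, δ (mapLin k ιM 0 z) = 0 := fun z => by
    by_contra hz
    refine hM fun y => ?_
    obtain ⟨c, hc⟩ := (finrank_eq_one_iff_of_nonzero' (δ (mapLin k ιM 0 z)) hz).1 hK1' (δ y)
    obtain ⟨z', hz'⟩ := hfac (y - c • mapLin k ιM 0 z) (by rw [map_sub, map_smul, hc, sub_self])
    exact ⟨z' + c • z, by rw [map_add, map_smul, hz', sub_add_cancel]⟩
  let F' := pullback g ιM
  let i' : ω ⟶ F' := pullback.lift f 0 (by rw [w, zero_comp])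
  have hρι : ρ ≫ kernel.ι g = f := kernel.lift_ι _ _ _
  haveI : Mono f := hρι ▸ mono_comp ρ (kernel.ι g)
  have hi : i' ≫ pullback.fst g ιM = f := pullback.lift_fst _ _ _
  haveI : Mono i' := mono_of_mono_fac hi
  have w' : i' ≫ pullback.snd g ιM = 0 := pullback.lift_snd _ _ _
  haveI : Epi (pullback.snd g ιM) := Abelian.epi_pullback_of_epi_f g ιM
  have hex' : (ShortComplex.mk i' (pullback.snd g ιM) w').Exact := by
    rw [ShortComplex.exact_iff_exact_up_to_refinements]
    intro A a ha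
    change a ≫ pullback.snd g ιM = 0 at ha
    have h1 : (a ≫ pullback.fst g ιM) ≫ g = 0 := by
      rw [Category.assoc, pullback.condition, ← Category.assoc, ha, zero_comp]
    refine ⟨A, 𝟙 A, inferInstance, kernel.lift g _ h1 ≫ inv ρ, ?_⟩
    rw [Category.id_comp]
    change a = (kernel.lift g _ h1 ≫ inv ρ) ≫ i'
    refine pullback.hom_ext ?_ ?_
    · rw [Category.assoc, hi, ← hρι, Category.assoc, IsIso.inv_hom_id_assoc, kernel.lift_ι]
    · rw [Category.assoc, w', comp_zero, ha]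
  haveI : Mono (ShortComplex.mk i' (pullback.snd g ιM) w').f := ‹Mono i'›
  haveI : Epi (ShortComplex.mk i' (pullback.snd g ιM) w').g := ‹Epi (pullback.snd g ιM)›
  have hS' : (ShortComplex.mk i' (pullback.snd g ιM) w').ShortExact := { exact := hex' }
  have hfq : Coh.IsQCoh (SheafOfModules.free (Coh.structureModule X ⟶ F) : X.Modules) :=
    QCoh.isQCoh_colimit _ fun _ => QCoh.isQCoh_structureModule
  have hMc : Coh.IsCoh M := QCoh.isCoh_of_mono ιM hQ
    ((QCoh.isQCoh_iff_iso (Abelian.imageIsoImage (P ≫ g))).1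
      (QCoh.isQCoh_kernel hQ.1 (QCoh.isQCoh_cokernel hfq hQ.1 (P ≫ g)) _))
  have hM1 : Subsingleton (Coh.HH X M 1) :=
    S0047.result X M hMc (fun x hx => by
      have hc := Euler.closure_eq_self_of_dim_le_zero (QCoh.isClosed_support_of_isFT hQ.1 hQ.2) hQ0
        (TFOneX.support_subset_of_mono ιM hx)
      rw [← hc]
      exact isClosed_closure) 1 one_pos
  obtain ⟨φ, hφ⟩ := exists_retraction k hω hωc.1 i' _ w' hS' (QCoh.isQCoh_X₂ hS' hωc.1 hMc.1) hM1 fun z => by
    obtain ⟨x, hx⟩ := hker.le (LinearMap.mem_ker.2 (hzero z))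
    obtain ⟨s, hs⟩ := exists_mapLin_oneH k F x
    obtain ⟨m, hm⟩ := exists_mapLin_oneH k M z
    haveI : HasExt.{u} X.Modules := IsGrothendieckAbelian.hasExt _
    have hsm : s ≫ g = m ≫ ιM := (CurveDual.bijective_extH₀ _).1 (by
      show mapLin k (s ≫ g) 0 CurveDual.oneH = mapLin k (m ≫ ιM) 0 CurveDual.oneH
      rw [← mapLin_comp, ← mapLin_comp, hs, hm, hx])
    exact ⟨mapLin k (pullback.lift s m hsm) 0 CurveDual.oneH, by rw [mapLin_comp, pullback.lift_snd, hm]⟩
  let sp := ShortComplex.Splitting.ofExactOfRetraction _ hex' φ hφ inferInstance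
  have hsg : (sp.s ≫ pullback.fst g ιM) ≫ g = ιM := by
    rw [Category.assoc, pullback.condition, ← Category.assoc, show sp.s ≫ pullback.snd g ιM = 𝟙 M from sp.s_g, Category.id_comp]
  haveI : Mono ((sp.s ≫ pullback.fst g ιM) ≫ g) := by
    rw [hsg]
    exact inferInstanceAs (Mono (Limits.image.ι (P ≫ g)))
  haveI : Mono (sp.s ≫ pullback.fst g ιM) := mono_of_mono _ g
  have hMz : IsZero M := hno M (sp.s ≫ pullback.fst g ιM) ‹_› ‹_›
  have hinj : Function.Injective δ := by
    rw [← LinearMap.ker_eq_bot, eq_bot_iff]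
    intro y hy
    obtain ⟨z, rfl⟩ := hfac y hy
    rw [Submodule.mem_bot, hMz.eq_of_src ιM 0, mapLin_zero]
  have h2 : Module.finrank k (Coh.HH X Q 0) ≤ Module.finrank k (Coh.HH X K 1) :=
    LinearMap.finrank_le_finrank_of_injective (f := δ) hinj
  omega

end Groth.Agent.CurveDual18
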