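import Groth.Agent.CurveDual.Main
import Groth.Agent.CurveDual.Dual
import Groth.Agent.Lib.CurveCanonical
import Groth.Agent.NefH1.Field

/-!
Numerical duality on a proper curve, from a dualizing pair in degree one.
-/

set_option autoImplicit false
set_option linter.style.haveILetI false
set_option linter.unusedSectionVars false
set_option backward.isDefEq.respectTransparency false
set_option backward.isDefEq.respectTransparency.types false
set_option maxHeartbeats 800000

universe u

open CategoryTheory CategoryTheory.Limits AlgebraicGeometry TopologicalSpace Opposite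
open Groth.Agent.PnCoh.Finite (mapLin)

noncomputable section

namespace Groth.Agent.CurveDual18

open Groth.Agent Groth.Agent.CurveDuality

variable (k : Type u) [Field k] {X : Scheme.{u}} [X.Over (Spec (CommRingCat.of k))]
  [IsProper (X ↘ Spec (CommRingCat.of k))] {ω : X.Modules} {t : Coh.HH X ω 1 →ₗ[k] k}
  (hω : Canon.IsRDualOver k X 1 ω t)

include hω

/-- Duality for invertible modules: `H¹(L)` is dual to `H⁰(L⁻¹ ⊗ ω)`. -/
theorem bijective_pairing {L D : X.Modules} (hL : PicF.IsInvertible L)
    (e : (DCoh.tensorBi.obj L).obj D ≅ Coh.structureModule X) :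
    Function.Bijective (pairing k e ω t) := by
  have hb := hω.2 L (ProjUPX.isQCoh_of_isInvertible hL)
  refine ⟨(injective_iff_map_eq_zero _).2 fun s hs => ?_, fun g => ?_⟩
  · by_contra hs0
    refine homOfTwist_ne_zero e hs0 ((CurveDual.dualEquiv hω (ProjUPX.isQCoh_of_isInvertible hL)).injective ?_)
    rw [map_zero]
    exact LinearMap.ext fun x => LinearMap.congr_fun hs x
  · obtain ⟨φ, hφ⟩ := hb.2 g
    obtain ⟨s, hs⟩ := exists_homOfTwist k e φ
    refine ⟨s, LinearMap.ext fun x => ?_⟩
    show t (mapLin k (homOfTwist e ω s) 1 x) = g x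
    rw [hs, ← hφ]
    rfl

theorem finrank_h1_eq {L D : X.Modules} (hL : PicF.IsInvertible L)
    (e : (DCoh.tensorBi.obj L).obj D ≅ Coh.structureModule X) :
    Module.finrank k (Coh.HH X L 1) = Module.finrank k (Coh.HH X ((DCoh.tensorBi.obj D).obj ω) 0) := by
  haveI := CurveCohLib.isNoetherian_of_proper (k := k) (X := X)
  haveI := CurveCohLib.finite_HH (k := k) (CurveDeg.isCoh_of_isInvertible hL) 1
  rw [(LinearEquiv.ofBijective _ (bijective_pairing k hω hL e)).finrank_eq, Subspace.dual_finrank_eq]

/-- `h¹(O) = h⁰(ω)`. -/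
theorem finrank_h0_dualizing :
    Module.finrank k (Coh.HH X ω 0) = Module.finrank k (Coh.HH X (Coh.structureModule X) 1) := by
  rw [finrank_h1_eq k hω InvX.isInvertible_structureModule
    (CurveTensor.structureTensorIso (Coh.structureModule X))]
  exact (CurveCohLib.hhEquiv (k := k) (CurveTensor.structureTensorIso ω) 0).finrank_eq.symm

/-- `h¹(ω) = h⁰(O)` for an invertible dualizing module. -/
theorem finrank_h1_dualizing (hinv : PicF.IsInvertible ω) :
    Module.finrank k (Coh.HH X ω 1) = Module.finrank k (Coh.HH X (Coh.structureModule X) 0) := by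
  obtain ⟨D, -, ⟨e₀⟩⟩ := H23.PicInv.exists_inverse hinv
  have e : (DCoh.tensorBi.obj ω).obj D ≅ Coh.structureModule X := e₀
  rw [finrank_h1_eq k hω hinv e]
  exact (CurveCohLib.hhEquiv (k := k) (CurveTensor.commIso D ω ≪≫ e) 0).finrank_eq

/-- `χ(ω) = -χ(O)`. -/
theorem euler_dualizing (hdim : topologicalKrullDim X ≤ 1) (hinv : PicF.IsInvertible ω) :
    Curv2.euler k X ω = - Curv2.euler k X (Coh.structureModule X) := by
  rw [NefH1.euler_eq k hdim (ProjUPX.isQCoh_of_isInvertible hinv),
    NefH1.euler_eq k hdim QCoh.isQCoh_structureModule, finrank_h0_dualizing k hω,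
    finrank_h1_dualizing k hω hinv]
  ring

end Groth.Agent.CurveDual18
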